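import Cfsg.Agent.Lib.Fusion.CentricInter
import Cfsg.Agent.Lib.Fusion.Abelian
import Cfsg.Agent.Lib.Fusion.Closed
import Cfsg.Agent.Lib.Fusion.Framework
import Mathlib

/-! # Every element conjugate into the centre: abelian Sylow (`p = 2`) -/

set_option autoImplicit false
set_option linter.unusedSectionVars false
set_option linter.unusedVariables false

namespace Cfsg.Agent.Lib.CamHer

open Cfsg Cfsg.FusionSystem Cfsg.Agent.Lib.Fusion

variable {Ω : Type*} [Group Ω] {S : Subgroup Ω} {F : FusionSystem S} {p : ℕ} [Fact p.Prime] [Finite S]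

/-- A central subgroup has an automizer of order prime to `p`. -/
theorem coprime_aut_of_central (hS : IsPGroup p S) (hF : F.IsSaturated p) {Q : Subgroup Ω} (hQ : Q ≤ S)
    (hcen : ∀ q ∈ Q, ∀ s ∈ S, s * q = q * s) : (Nat.card (F.autGroup Q)).Coprime p := by
  have hfin := finite_autGroup F hQ
  have hN : normalizerIn S Q = S := by
    refine le_antisymm (normalizerIn_le _) (fun s hs => mem_normalizerIn.2 ⟨hs, ?_⟩)
    have : Finite Q := finite_of_le hQ
    refine mem_normalizer_of_forall fun x hx => ?_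
    rw [hcen x hx s hs]
    simpa using hx
  have hfn : F.IsFullyNormalized Q := isFullyNormalized_of_normalizerIn_eq hQ hN
  obtain ⟨-, U, hU⟩ := IsSat.fullyAutomized_of_fullyNormalized hS hF hfn
  have hbot : autInducedBy S Q = ⊥ := by
    rw [eq_bot_iff]
    intro α hα
    obtain ⟨g, hg, hgv⟩ := mem_autInducedBy_iff.1 hα
    refine Subgroup.mem_bot.2 ?_
    ext x
    rw [hgv x, hcen _ x.2 g hg]
    simp
  rw [hbot] at hU
  refine (Nat.Coprime.symm ?_)
  rw [Nat.Prime.coprime_iff_not_dvd Fact.out]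
  intro hd
  apply U.ne_bot_of_dvd_card hd
  rw [hU]
  exact Subgroup.bot_subgroupOf _

/-- The first step: an element conjugate into the centre is not conjugate to another generator of the
cyclic group it generates. -/
theorem conj_fix (hS : IsPGroup p S) (hF : F.IsSaturated p)
    (h : ∀ x ∈ S, ∃ z ∈ S ⊓ Subgroup.centralizer (S : Set Ω), F.IsConjElt x z) {x s : Ω} (hx : x ∈ S) (hs : s ∈ S)
    (hsx : s * x * s⁻¹ ∈ Subgroup.zpowers x) : s * x * s⁻¹ = x := by
  classical
  obtain ⟨z, ⟨hzS, hzC⟩, φ, hφ, hφx⟩ := h x hx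
  have hPS : Subgroup.zpowers x ≤ S := hom_le F hφ
  have : Finite (Subgroup.zpowers x) := finite_of_le hPS
  have hsN : s ∈ Subgroup.normalizer ((Subgroup.zpowers x : Subgroup Ω) : Set Ω) := by
    refine mem_normalizer_of_forall fun y hy => ?_
    obtain ⟨k, rfl⟩ := Subgroup.mem_zpowers_iff.1 hy
    have e : s * x ^ k * s⁻¹ = (s * x * s⁻¹) ^ k := by
      simp [conj_zpow]
    rw [e]
    exact Subgroup.zpow_mem _ hsx k
  let α : MulAut (Subgroup.zpowers x) := conjAut _ s hsN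
  have hαI : α ∈ autInducedBy S (Subgroup.zpowers x) := conjAut_mem hs hsN
  have hαF : α ∈ F.autGroup (Subgroup.zpowers x) := autInducedBy_le_autGroup F hPS hαI
  obtain ⟨e, he, hev⟩ := exists_isIso_of_mem (F := F) hφ (rfl : φ.range = φ.range)
  have hQS : φ.range ≤ S := by
    rintro _ ⟨y, rfl⟩
    exact hom_val F hφ y
  -- `φ.range` central
  have hcen : ∀ q ∈ φ.range, ∀ t ∈ S, t * q = q * t := by
    rintro _ ⟨y, rfl⟩ t ht
    obtain ⟨k, hk⟩ := Subgroup.mem_zpowers_iff.1 y.2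
    have hy : y = (⟨x, Subgroup.mem_zpowers x⟩ : Subgroup.zpowers x) ^ k := Subtype.ext hk.symm
    rw [hy, map_zpow, hφx]
    have hcomm : Commute t z := by
      have := (Subgroup.mem_centralizer_iff.1 hzC) t ht
      exact this
    exact hcomm.zpow_right k
  have hcop := coprime_aut_of_central hS hF hQS hcen
  have hfin := finite_autGroup F hQS
  let β : F.autGroup φ.range := autGroupEquiv he ⟨α, hαF⟩
  -- `α` is a `p`-element
  obtain ⟨k, hk⟩ := isPGroup_autInducedBy hS (Subgroup.zpowers x) ⟨α, hαI⟩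
  have hαk : α ^ p ^ k = 1 := by
    have := congrArg Subtype.val hk
    simpa using this
  have hαk' : (⟨α, hαF⟩ : F.autGroup (Subgroup.zpowers x)) ^ p ^ k = 1 := by
    apply Subtype.ext
    simpa using hαk
  have hβk : β ^ p ^ k = 1 := by
    show (autGroupEquiv he ⟨α, hαF⟩) ^ p ^ k = 1
    rw [← map_pow, hαk', map_one]
  have hβ1 : β = 1 := by
    have h1 : orderOf β ∣ p ^ k := orderOf_dvd_of_pow_eq_one hβk
    have h2 : orderOf β ∣ Nat.card (F.autGroup φ.range) := orderOf_dvd_natCard β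
    have h3 : Nat.Coprime (p ^ k) (Nat.card (F.autGroup φ.range)) :=
      (Nat.Coprime.pow_left k hcop.symm)
    have h4 : orderOf β = 1 := Nat.eq_one_of_dvd_coprimes h3 h1 h2
    exact orderOf_eq_one_iff.1 h4
  have hα1 : (⟨α, hαF⟩ : F.autGroup (Subgroup.zpowers x)) = 1 := by
    have : autGroupEquiv he ⟨α, hαF⟩ = 1 := hβ1
    exact (map_eq_one_iff _ (autGroupEquiv he).injective).1 this
  have hα2 : α = 1 := congrArg Subtype.val hα1
  have h5 : (α ⟨x, Subgroup.mem_zpowers x⟩ : Subgroup.zpowers x) = ⟨x, Subgroup.mem_zpowers x⟩ := by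
    rw [hα2]
    rfl
  exact congrArg Subtype.val h5

/-- In the situation of the theorem, two involutions of `S` commute. -/
theorem invol_comm (hS : IsPGroup 2 S) {F : FusionSystem S} (hF : F.IsSaturated 2)
    (h : ∀ x ∈ S, ∃ z ∈ S ⊓ Subgroup.centralizer (S : Set Ω), F.IsConjElt x z) {x y : Ω} (hx : x ∈ S) (hy : y ∈ S)
    (hx2 : x * x = 1) (hy2 : y * y = 1) : x * y = y * x := by
  have hxi : x⁻¹ = x := inv_eq_of_mul_eq_one_left hx2
  have hyi : y⁻¹ = y := inv_eq_of_mul_eq_one_left hy2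
  have hw : x * (x * y) * x⁻¹ = (x * y)⁻¹ := by
    rw [hxi, mul_inv_rev, hxi, hyi, ← mul_assoc, hx2, one_mul]
  have h1 := conj_fix hS hF h (S.mul_mem hx hy) hx (by
    rw [hw]
    exact Subgroup.inv_mem _ (Subgroup.mem_zpowers _))
  rw [hw, mul_inv_rev, hxi, hyi] at h1
  exact h1.symm

/-- The subgroup of elements of `S` of order at most two. -/
def invSub (hS : IsPGroup 2 S) {F : FusionSystem S} (hF : F.IsSaturated 2)
    (h : ∀ x ∈ S, ∃ z ∈ S ⊓ Subgroup.centralizer (S : Set Ω), F.IsConjElt x z) : Subgroup Ω where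
  carrier := {y | y ∈ S ∧ y * y = 1}
  mul_mem' := by
    rintro a b ⟨ha, ha2⟩ ⟨hb, hb2⟩
    refine ⟨S.mul_mem ha hb, ?_⟩
    have hc := invol_comm hS hF h ha hb ha2 hb2
    calc a * b * (a * b) = a * (b * a) * b := by group
      _ = a * (a * b) * b := by rw [hc]
      _ = (a * a) * (b * b) := by group
      _ = 1 := by rw [ha2, hb2, one_mul]
  one_mem' := ⟨S.one_mem, one_mul 1⟩
  inv_mem' := by
    rintro a ⟨ha, ha2⟩
    refine ⟨S.inv_mem ha, ?_⟩
    rw [inv_eq_of_mul_eq_one_left ha2, ha2]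

section Main

variable (hS : IsPGroup 2 S) {F : FusionSystem S} (hF : F.IsSaturated 2)
  (h : ∀ x ∈ S, ∃ z ∈ S ⊓ Subgroup.centralizer (S : Set Ω), F.IsConjElt x z)

theorem mem_invSub {y : Ω} : y ∈ invSub hS hF h ↔ y ∈ S ∧ y * y = 1 := Iff.rfl

theorem invSub_comm {a b : Ω} (ha : a ∈ invSub hS hF h) (hb : b ∈ invSub hS hF h) : a * b = b * a :=
  invol_comm hS hF h ha.1 hb.1 ha.2 hb.2

theorem invSub_sc : F.StronglyClosed (invSub hS hF h) := by
  refine ⟨fun x hx => hx.1, fun R hR φ hφ x => ⟨hom_val F hφ x, ?_⟩⟩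
  have h1 : (x : Ω) * x = 1 := (hR x.2).2
  have h2 : x * x = 1 := Subtype.ext h1
  rw [← map_mul, h2, map_one]

/-- The conjugates of the subgroup under `S` stay in it. -/
theorem invSub_conj {s a : Ω} (hs : s ∈ S) (ha : a ∈ invSub hS hF h) : s * a * s⁻¹ ∈ invSub hS hF h := by
  refine ⟨S.mul_mem (S.mul_mem hs ha.1) (S.inv_mem hs), ?_⟩
  have : s * a * s⁻¹ * (s * a * s⁻¹) = s * (a * a) * s⁻¹ := by group
  rw [this, ha.2]
  group

/-- The subgroup is contained in every essential subgroup. -/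
theorem invSub_le_essential {T : Subgroup Ω} (hT : F.IsEssential 2 T) : invSub hS hF h ≤ T := by
  classical
  set E := invSub hS hF h with hE
  have hTS : T ≤ S := hT.1.1
  have hC : centralizerIn S T ≤ T := IsCentric.centralizer_le hT.1
  by_contra hne
  -- the group `T E`
  have hnorm : ∀ s ∈ S, s ∈ Subgroup.normalizer (E : Set Ω) := fun s hs => by
    have hEf : Finite E := finite_of_le (fun x hx => hx.1 : E ≤ S)
    exact mem_normalizer_of_forall fun x hx => invSub_conj hS hF h hs hx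
  -- find an element of `E` outside `T` normalizing `T`
  have hlt : T < T ⊔ E := lt_of_le_of_ne le_sup_left (fun heq => hne (heq ▸ le_sup_right))
  have hJS : T ⊔ E ≤ S := sup_le hTS (fun x hx => hx.1)
  have hJp : IsPGroup 2 (T ⊔ E : Subgroup Ω) := hS.to_le hJS
  have : Finite (T ⊔ E : Subgroup Ω) := finite_of_le hJS
  have hlt2 := lt_normalizerIn (S := T ⊔ E) hJp hlt
  obtain ⟨g, hgN, hgT⟩ := SetLike.exists_of_lt hlt2
  have hgJ : g ∈ T ⊔ E := normalizerIn_le _ hgN
  have hgNT : g ∈ Subgroup.normalizer (T : Set Ω) := (mem_normalizerIn.1 hgN).2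
  -- write `g = t e`
  have hEN : T ≤ Subgroup.normalizer (E : Set Ω) := fun t ht => hnorm t (hTS ht)
  have hgmul : ∃ e ∈ E, ∃ t ∈ T, g = e * t := by
    rw [sup_comm] at hgJ
    exact exists_mul_of_mem_sup hEN hgJ
  obtain ⟨e, he, t, ht, rfl⟩ := hgmul
  have heT : e ∉ T := fun h' => hgT (T.mul_mem h' ht)
  have heN : e ∈ Subgroup.normalizer (T : Set Ω) := by
    have := (Subgroup.normalizer (T : Set Ω)).mul_mem hgNT ((Subgroup.normalizer (T : Set Ω)).inv_mem (Subgroup.le_normalizer ht))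
    simpa using this
  have heS : e ∈ S := he.1
  have hαI : conjAut T e heN ∈ autInducedBy S T := conjAut_mem heS heN
  have hαF : conjAut T e heN ∈ F.autGroup T := autInducedBy_le_autGroup F hTS hαI
  have hpc := stab_mem_pCore hS (invSub_sc hS hF h) hTS hαF
    (fun x hx => by
      apply Subtype.ext
      show e * (x : Ω) * e⁻¹ = x
      have := invSub_comm hS hF h he hx
      rw [this]
      group)
    (fun x => by
      show (x : Ω)⁻¹ * (e * (x : Ω) * e⁻¹) ∈ E
      have e1 : (x : Ω)⁻¹ * (e * (x : Ω) * e⁻¹) = ((x : Ω)⁻¹ * e * (x : Ω)) * e⁻¹ := by group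
      rw [e1]
      refine E.mul_mem ?_ (E.inv_mem he)
      have := invSub_conj hS hF h (S.inv_mem (hTS x.2)) he
      simpa using this)
  have hrad := isRadical_of_essential hS hT
  have hI : conjAut T e heN ∈ Inn T := by
    rw [← hrad.2]
    exact hpc
  exact conjAut_not_mem_inn hC heS heN heT hTS hI

/-- Every element centralizes the subgroup of involutions. -/
theorem invSub_central {x e : Ω} (hx : x ∈ S) (he : e ∈ invSub hS hF h) : x * e = e * x := by
  classical
  set E := invSub hS hF h with hE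
  have hES : E ≤ S := fun x hx => hx.1
  let C : ∀ P : Subgroup Ω, (P →* Ω) → Prop := fun P φ =>
    ∀ x : P, (∀ e ∈ E, (x : Ω) * e = e * x) ↔ ∀ e ∈ E, φ x * e = e * φ x
  have hcl : ClosedClass F C := by
    refine ⟨fun P g hP hg x => ?_, fun P Q φ ψ hφ hψ h1 h2 hm x => ?_, fun P φ ψ hφ h1 hψ hv y => ?_⟩
    · constructor
      · intro h3 e he
        show g * (x : Ω) * g⁻¹ * e = e * (g * (x : Ω) * g⁻¹)
        have h4 := h3 (g⁻¹ * e * g) (by simpa using invSub_conj hS hF h (S.inv_mem hg) he)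
        have h5 : g * ((x : Ω) * (g⁻¹ * e * g)) * g⁻¹ = g * ((g⁻¹ * e * g) * (x : Ω)) * g⁻¹ := by rw [h4]
        calc g * (x : Ω) * g⁻¹ * e = g * ((x : Ω) * (g⁻¹ * e * g)) * g⁻¹ := by group
          _ = g * ((g⁻¹ * e * g) * (x : Ω)) * g⁻¹ := h5
          _ = e * (g * (x : Ω) * g⁻¹) := by group
      · intro h3 e he
        have h4 : g * (x : Ω) * g⁻¹ * (g * e * g⁻¹) = (g * e * g⁻¹) * (g * (x : Ω) * g⁻¹) :=
          h3 (g * e * g⁻¹) (invSub_conj hS hF h hg he)
        have h5 : g * ((x : Ω) * e) * g⁻¹ = g * (e * (x : Ω)) * g⁻¹ := by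
          calc g * ((x : Ω) * e) * g⁻¹ = g * (x : Ω) * g⁻¹ * (g * e * g⁻¹) := by group
            _ = (g * e * g⁻¹) * (g * (x : Ω) * g⁻¹) := h4
            _ = g * (e * (x : Ω)) * g⁻¹ := by group
        exact mul_left_cancel (mul_right_cancel h5)
    · exact (h1 x).trans (h2 (φ.codRestrict Q hm x))
    · obtain ⟨a, rfl⟩ : ∃ a : P, (⟨φ a, ⟨a, rfl⟩⟩ : φ.range) = y := by
        obtain ⟨y, a, rfl⟩ := y
        exact ⟨a, rfl⟩
      rw [hv a]
      exact (h1 a).symm
  have hmain := hcl.alperin_induction hS hF (fun T hT α hα x => ?_)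
  · obtain ⟨z, ⟨hzS, hzC⟩, φ, hφ, hφx⟩ := h x hx
    have h1 := (hmain _ φ hφ ⟨x, Subgroup.mem_zpowers x⟩).2
    rw [hφx] at h1
    have h2 : ∀ e ∈ E, z * e = e * z := fun e he => ((Subgroup.mem_centralizer_iff.1 hzC) e (hES he)).symm
    exact h1 h2 e he
  · -- automorphisms of `S` and of essential subgroups
    have hET : E ≤ T := by
      rcases hT with rfl | hT
      · exact hES
      · exact invSub_le_essential hS hF h hT
    have hTS : T ≤ S := by
      rcases hT with rfl | hT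
      · exact le_rfl
      · exact hT.1.1
    -- `α` preserves `E`
    have hpres : ∀ β ∈ F.autGroup T, ∀ a : T, (a : Ω) ∈ E → ((β a : T) : Ω) ∈ E := fun β hβ a ha =>
      StronglyClosed.aut_mem (invSub_sc hS hF h) hTS hβ ha
    have key : ∀ β ∈ F.autGroup T, ∀ y : T, (∀ e ∈ E, (y : Ω) * e = e * y) → ∀ e ∈ E, ((β y : T) : Ω) * e = e * (β y : T) := by
      intro β hβ y hy e he
      -- `e = β e'`
      let e₀ : T := ⟨e, hET he⟩
      have hβi : β⁻¹ ∈ F.autGroup T := Subgroup.inv_mem _ hβ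
      have he' : (((β⁻¹) e₀ : T) : Ω) ∈ E := hpres _ hβi e₀ he
      have h3 := hy _ he'
      have h4 : y * (β⁻¹) e₀ = (β⁻¹) e₀ * y := Subtype.ext h3
      have h5 := congrArg β h4
      rw [map_mul, map_mul] at h5
      have h6 : β ((β⁻¹) e₀) = e₀ := by simp
      rw [h6] at h5
      exact congrArg Subtype.val h5
    constructor
    · intro hy
      exact key α hα x hy
    · intro hy
      have h7 := key α⁻¹ (Subgroup.inv_mem _ hα) (α x) hy
      have h8 : α⁻¹ (α x) = x := by simp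
      rwa [h8] at h7

include hS hF h in
/-- All elements of `S` are central. -/
theorem all_central : ∀ n : ℕ, ∀ x ∈ S, orderOf x = n → ∀ s ∈ S, s * x = x * s := by
  classical
  intro n
  induction n using Nat.strong_induction_on with
  | _ n ih =>
  intro x hx hn s hs
  have hp2 : IsPGroup 2 (S : Subgroup Ω) := hS
  obtain ⟨k, hk⟩ : ∃ k, orderOf x = 2 ^ k := by
    obtain ⟨k, hk⟩ := hS ⟨x, hx⟩
    have h1 : orderOf x ∣ 2 ^ k := by
      apply orderOf_dvd_of_pow_eq_one
      exact congrArg Subtype.val hk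
    obtain ⟨j, -, hj⟩ := (Nat.dvd_prime_pow Nat.prime_two).1 h1
    exact ⟨j, hj⟩
  rcases k with _ | k
  · have : x = 1 := orderOf_eq_one_iff.1 (by simpa using hk)
    subst this
    simp
  -- the square
  have hxx : x * x ∈ S := S.mul_mem hx hx
  have hord : orderOf (x * x) < n := by
    have e : x * x = x ^ 2 := (pow_two x).symm
    rw [e, orderOf_pow' x two_ne_zero, hk, ← hn, hk]
    have hg : Nat.gcd (2 ^ (k + 1)) 2 = 2 := Nat.gcd_eq_right (dvd_pow_self 2 (Nat.succ_ne_zero k))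
    rw [hg]
    have : 2 ^ (k + 1) / 2 = 2 ^ k := by
      rw [pow_succ]
      simp
    rw [this, pow_succ]
    have : 0 < 2 ^ k := by positivity
    omega
  have hsq : ∀ t ∈ S, t * (x * x) = (x * x) * t := ih _ hord _ hxx rfl
  obtain ⟨z, ⟨hzS, hzC⟩, φ, hφ, hφx⟩ := h x hx
  have hzcom : ∀ t ∈ S, t * z = z * t := fun t ht => (Subgroup.mem_centralizer_iff.1 hzC) t ht
  -- restrict `φ` to the cyclic subgroup generated by the square
  let Q₀ : Subgroup Ω := Subgroup.zpowers (x * x)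
  have hQ₀le : Q₀ ≤ Subgroup.zpowers x := by
    rw [Subgroup.zpowers_le]
    exact Subgroup.mul_mem _ (Subgroup.mem_zpowers x) (Subgroup.mem_zpowers x)
  have hφ₀ : φ.comp (Subgroup.inclusion hQ₀le) ∈ F.Hom Q₀ := res_mem F hφ hQ₀le
  have hQ₀S : Q₀ ≤ S := hQ₀le.trans (hom_le F hφ)
  have hQ₀cen : ∀ q ∈ Q₀, ∀ t ∈ S, t * q = q * t := by
    intro q hq t ht
    obtain ⟨j, rfl⟩ := Subgroup.mem_zpowers_iff.1 hq
    have : Commute t (x * x) := hsq t ht
    exact this.zpow_right j
  -- the range is central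
  have hRcen : ∀ q ∈ (φ.comp (Subgroup.inclusion hQ₀le)).range, ∀ t ∈ S, t * q = q * t := by
    rintro _ ⟨y, rfl⟩ t ht
    obtain ⟨j, hj⟩ := Subgroup.mem_zpowers_iff.1 y.2
    have hy : Subgroup.inclusion hQ₀le y = (⟨x, Subgroup.mem_zpowers x⟩ * ⟨x, Subgroup.mem_zpowers x⟩ : Subgroup.zpowers x) ^ j := by
      apply Subtype.ext
      simp [← hj]
    have e2 : (φ.comp (Subgroup.inclusion hQ₀le)) y = (z * z) ^ j := by
      rw [MonoidHom.comp_apply, hy, map_zpow, map_mul, hφx]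
    rw [e2]
    have : Commute t (z * z) := by
      have h3 : Commute t z := hzcom t ht
      exact h3.mul_right h3
    exact this.zpow_right j
  have hRS : (φ.comp (Subgroup.inclusion hQ₀le)).range ≤ S := by
    rintro _ ⟨y, rfl⟩
    exact hom_val F hφ₀ y
  have hfn : F.IsFullyNormalized (φ.comp (Subgroup.inclusion hQ₀le)).range := by
    refine isFullyNormalized_of_normalizerIn_eq hRS ?_
    refine le_antisymm (normalizerIn_le _) (fun s hs => mem_normalizerIn.2 ⟨hs, ?_⟩)
    have : Finite (φ.comp (Subgroup.inclusion hQ₀le)).range := finite_of_le hRS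
    refine mem_normalizer_of_forall fun y hy => ?_
    rw [hRcen y hy s hs]
    simpa using hy
  obtain ⟨-, hrec⟩ := IsSat.receptive_of_fullyNormalized hS hF hfn
  obtain ⟨ψ, hψ, hψv⟩ := hrec Q₀ _ hφ₀ rfl
  have hle : S ≤ extender S Q₀ (φ.comp (Subgroup.inclusion hQ₀le)) := fun g hg =>
    centralizerIn_le_extender (mem_centralizerIn.2 ⟨hg, fun y hy => (hQ₀cen y hy g hg).symm⟩)
  have hψ' : ψ.comp (Subgroup.inclusion hle) ∈ F.Hom S := res_mem F hψ hle
  set ρ : S →* Ω := ψ.comp (Subgroup.inclusion hle) with hρ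
  have hρinj : Function.Injective ρ := hom_inj F hψ'
  have hρval : ∀ a : S, ρ a ∈ S := fun a => hom_val F hψ' a
  let f : S → S := fun a => ⟨ρ a, hρval a⟩
  have hfinj : Function.Injective f := fun a b hab => hρinj (congrArg Subtype.val hab)
  have hfsurj : Function.Surjective f := Finite.surjective_of_injective hfinj
  obtain ⟨z', hz'⟩ := hfsurj ⟨z, hzS⟩
  have hz'v : ρ z' = z := congrArg Subtype.val hz'
  -- `z'` is central
  have hz'cen : ∀ t : S, t * z' = z' * t := by
    intro t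
    apply hρinj
    rw [map_mul, map_mul, hz'v]
    exact hzcom _ (hρval t)
  -- the squares agree
  have hsqeq : (z' : Ω) * z' = x * x := by
    have hmem : x * x ∈ S := hxx
    have h1 : ρ ⟨x * x, hmem⟩ = z * z := by
      have h2 := hψv (x * x) (Subgroup.mem_zpowers _) (hle hmem)
      have h3 : ρ ⟨x * x, hmem⟩ = ψ ⟨x * x, hle hmem⟩ := rfl
      rw [h3, h2]
      show φ (Subgroup.inclusion hQ₀le ⟨x * x, Subgroup.mem_zpowers _⟩) = z * z
      have h4 : Subgroup.inclusion hQ₀le ⟨x * x, Subgroup.mem_zpowers _⟩ =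
          (⟨x, Subgroup.mem_zpowers x⟩ * ⟨x, Subgroup.mem_zpowers x⟩ : Subgroup.zpowers x) := Subtype.ext rfl
      rw [h4, map_mul, hφx]
    have h5 : ρ (z' * z') = ρ ⟨x * x, hmem⟩ := by
      rw [map_mul, hz'v, h1]
    exact congrArg Subtype.val (hρinj h5)
  -- the quotient is an involution, hence central
  have hyE : x * (z' : Ω)⁻¹ ∈ invSub hS hF h := by
    refine ⟨S.mul_mem hx (S.inv_mem z'.2), ?_⟩
    have hxz : x * (z' : Ω) = z' * x := (congrArg Subtype.val (hz'cen ⟨x, hx⟩))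
    have hxz' : (z' : Ω)⁻¹ * x = x * (z' : Ω)⁻¹ := by
      rw [inv_mul_eq_iff_eq_mul, ← mul_assoc, ← hxz, mul_assoc, mul_inv_cancel, mul_one]
    calc x * (z' : Ω)⁻¹ * (x * (z' : Ω)⁻¹) = x * ((z' : Ω)⁻¹ * x) * (z' : Ω)⁻¹ := by group
      _ = x * (x * (z' : Ω)⁻¹) * (z' : Ω)⁻¹ := by rw [hxz']
      _ = (x * x) * ((z' : Ω) * z')⁻¹ := by group
      _ = 1 := by rw [hsqeq]; group
  have h6 := invSub_central hS hF h hs hyE
  have h7 : s * (z' : Ω) = z' * s := congrArg Subtype.val (hz'cen ⟨s, hs⟩)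
  have hxe : x = x * (z' : Ω)⁻¹ * z' := by group
  calc s * x = s * (x * (z' : Ω)⁻¹ * z') := by rw [← hxe]
    _ = (s * (x * (z' : Ω)⁻¹)) * z' := by group
    _ = (x * (z' : Ω)⁻¹ * s) * z' := by rw [h6]
    _ = x * (z' : Ω)⁻¹ * (s * z') := by group
    _ = x * (z' : Ω)⁻¹ * (z' * s) := by rw [h7]
    _ = x * s := by group

end Main

/-- `S5274`. -/
theorem abelian_of_conj_center (hS : IsPGroup 2 S) {F : FusionSystem S} (hF : F.IsSaturated 2)
    (h : ∀ x ∈ S, ∃ z ∈ S ⊓ Subgroup.centralizer (S : Set Ω), F.IsConjElt x z) : IsMulCommutative ↥S := by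
  refine ⟨⟨fun a b => ?_⟩⟩
  exact Subtype.ext (all_central hS hF h _ b b.2 rfl a a.2)

end Cfsg.Agent.Lib.CamHer
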